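import Groth.Agent.UnipFixLib.Basic
import Groth.Agent.GenSubLib.TorusField
import Groth.Agent.TorusQuotLib.Chars

/-!
# Nilpotents and zero divisors of the invariants of a unipotent radical
-/

set_option autoImplicit false
set_option backward.isDefEq.respectTransparency false
set_option backward.isDefEq.respectTransparency.types false
set_option linter.unusedSectionVars false
set_option linter.style.haveILetI false

universe u

open CategoryTheory CategoryTheory.Limits MonoidalCategory CartesianMonoidalCategory MonObj AlgebraicGeometry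
open scoped TensorProduct

attribute [-instance] CategoryTheory.CommGrpObj.toIsCommMonObj CategoryTheory.CommGrpObj.toGrpObj CategoryTheory.Hom.commGroup

noncomputable section

namespace Groth.Agent.UnipFix

attribute [local instance] AGFObs.algΓ

open AGFObs (ev matCoef)

variable {k : Type u} [Field k]

section Comap

variable {G H : Over (Spec (CommRingCat.of k))} [GrpObj G] [GrpObj H]
variable {M : Type u} [AddCommGroup M] [Module k M]

/-- Restriction of a group module along a homomorphism. -/
def comap (ρ : VecGrp.GMod G M) (i : H ⟶ G) [IsMonHom i] : VecGrp.GMod H M where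
  ρ B _ _ := (ρ.ρ B).comp
    { toFun := fun g => g ≫ i
      map_one' := MonObj.one_comp i
      map_mul' := fun g h => MonObj.mul_comp g h i }
  naturality φ g x := (ρ.naturality φ (g ≫ i) x).trans (by rw [← Category.assoc]; rfl)

theorem mem_fixedUnder_comap (ρ : VecGrp.GMod G M) (i : H ⟶ G) [IsMonHom i] {x : M}
    (hx : x ∈ (comap ρ i).fixedUnder (𝟙 H)) : x ∈ ρ.fixedUnder i := by
  intro B _ _ h
  have h1 := hx B h
  rw [Category.comp_id] at h1
  exact h1

theorem isMult_comap {A : Type u} [CommRing A] [Algebra k A] (ρ : VecGrp.GMod G A) (hρ : ρ.IsMult)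
    (i : H ⟶ G) [IsMonHom i] : (comap ρ i).IsMult := fun B _ _ g => hρ B (g ≫ i)

end Comap

/-- If the geometric fibres contain no subtorus, neither does the group. -/
theorem hasNoSubtorus_of_geomFibre (U : Over (Spec (CommRingCat.of k))) [GrpObj U]
    (s : Spec (CommRingCat.of k))
    (hU : Red.HasNoSubtorus (AlgebraicClosure ((Spec (CommRingCat.of k)).residueField s)) (Red.geomFibre s U)) :
    Red.HasNoSubtorus k U := by
  intro T _ j _ _ hT
  obtain ⟨φ, hφ⟩ := Spec.map_surjective (Red.geomPt s)
  letI : Algebra k (AlgebraicClosure ((Spec (CommRingCat.of k)).residueField s)) := φ.hom.toAlgebra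
  have hpt : Red.geomPt s = Spec.map (CommRingCat.ofHom (algebraMap k _)) := hφ.symm
  have hT' : Red.IsTorus (Red.geomFibre s T) := by
    show Red.IsTorus (Red.bc (Red.geomPt s) T)
    rw [hpt]
    exact GenSubLib.isTorus_bc _ hT
  haveI : Mono ((Over.pullback (Red.geomPt s)).map j) := inferInstance
  have h1 := hU (Red.geomFibre s T) ((Over.pullback (Red.geomPt s)).map j) hT'
  haveI : Subsingleton (Spec (CommRingCat.of k)) := inferInstanceAs (Subsingleton (PrimeSpectrum k))
  haveI : Surjective (Red.geomPt s) := ⟨fun z => ⟨IsLocalRing.closedPoint _, Subsingleton.elim _ _⟩⟩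
  haveI : Flat (Red.geomPt s) := by
    rw [hpt, HasRingHomProperty.Spec_iff (P := @Flat)]
    exact RingHom.flat_algebraMap_iff.2 inferInstance
  haveI : QuasiCompact (Red.geomPt s) := inferInstance
  exact MorphismProperty.of_pullback_snd_of_descendsAlong (P := MorphismProperty.isomorphisms Scheme)
    (Q := @Surjective ⊓ @Flat ⊓ @QuasiCompact) (f := T.hom) (g := Red.geomPt s)
    ⟨⟨inferInstance, inferInstance⟩, inferInstance⟩ h1

variable [IsAlgClosed k] {U : Over (Spec (CommRingCat.of k))} [GrpObj U] [IsAffine U.left] [Smooth U.hom]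
  [ConnectedSpace U.left] {A : Type u} [CommRing A] [Algebra k A] (σ : VecGrp.GMod U A) (hσ : σ.IsMult)

include hσ in
theorem act_one_elem (c : VecGrp.pt k k ⟶ U) : act σ c (1 : A) = 1 := by
  rw [act_apply]
  have h := (hσ k c).2
  rw [Algebra.TensorProduct.one_def] at h
  rw [h, TensorProduct.lid_tmul, one_smul]

include hσ in
theorem act_pow (c : VecGrp.pt k k ⟶ U) (a : A) (n : ℕ) : act σ c (a ^ n) = act σ c a ^ n := by
  induction n with
  | zero => rw [pow_zero, pow_zero]; exact act_one_elem σ hσ c
  | succ n ih => rw [pow_succ, act_mul_elem σ hσ, ih, pow_succ]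

include hσ in
/-- A nonzero nilpotent gives an invariant one. -/
theorem exists_nilpotent_fixed (hU : Red.HasNoSubtorus k U) {a : A} (ha : IsNilpotent a) (ha0 : a ≠ 0) :
    ∃ w ∈ σ.fixedUnder (𝟙 U), IsNilpotent w ∧ w ≠ 0 := by
  let V : Submodule k A := (nilradical A).restrictScalars k
  obtain ⟨w, hwV, hw0, hw⟩ := exists_fixed σ hU V (fun c v hv => by
    obtain ⟨n, hn⟩ := mem_nilradical.1 hv
    exact mem_nilradical.2 ⟨n, by rw [← act_pow σ hσ, hn, map_zero]⟩) (mem_nilradical.2 ha) ha0
  exact ⟨w, hw, mem_nilradical.1 hwV, hw0⟩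

include hσ in
/-- Zero divisors give invariant zero divisors. -/
theorem exists_zeroDivisor_fixed (hU : Red.HasNoSubtorus k U) {a b : A} (ha0 : a ≠ 0) (hb0 : b ≠ 0)
    (hab : a * b = 0) :
    ∃ x ∈ σ.fixedUnder (𝟙 U), ∃ y ∈ σ.fixedUnder (𝟙 U), x ≠ 0 ∧ y ≠ 0 ∧ x * y = 0 := by
  classical
  by_cases hred : _root_.IsReduced A
  · haveI : IsIntegral U.left := TorusQuot.isIntegral_grp U
    haveI : IsDomain Γ(U.left, ⊤) := inferInstance
    -- each prime contains one of the two orbits
    have key : ∀ P : Ideal A, P.IsPrime →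
        (∀ c, act σ c a ∈ P) ∨ (∀ c, act σ c b ∈ P) := by
      intro P hP
      by_contra h
      push Not at h
      obtain ⟨⟨c, hc⟩, ⟨d, hd⟩⟩ := h
      obtain ⟨l, hlP, hl⟩ : ∃ l : A →ₗ[k] k, (∀ x ∈ P, l x = 0) ∧ l (act σ c a) ≠ 0 := by
        obtain ⟨l, hl, hle⟩ := Submodule.exists_le_ker_of_notMem (p := P.restrictScalars k) hc
        exact ⟨l, fun x hx => LinearMap.mem_ker.1 (hle hx), hl⟩
      obtain ⟨m, hmP, hm⟩ : ∃ l : A →ₗ[k] k, (∀ x ∈ P, l x = 0) ∧ l (act σ d b) ≠ 0 := by
        obtain ⟨l, hl, hle⟩ := Submodule.exists_le_ker_of_notMem (p := P.restrictScalars k) hd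
        exact ⟨l, fun x hx => LinearMap.mem_ker.1 (hle hx), hl⟩
      have h1 : matCoef σ l a * matCoef σ m b = 0 := AGFObs.eq_of_ev fun x => by
        rw [map_mul, map_zero, ev_matCoef_act, ev_matCoef_act]
        have h2 : act σ x a * act σ x b ∈ P := by
          rw [← act_mul_elem σ hσ, hab, map_zero]; exact P.zero_mem
        rcases hP.mem_or_mem h2 with h3 | h3
        · rw [hlP _ h3, zero_mul]
        · rw [hmP _ h3, mul_zero]
      rcases mul_eq_zero.1 h1 with h2 | h2
      · exact hl ((ev_matCoef_act σ l a c).symm.trans (by rw [h2, map_zero]))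
      · exact hm ((ev_matCoef_act σ m b d).symm.trans (by rw [h2, map_zero]))
    let Va : Submodule k A := Submodule.span k (Set.range fun c => act σ c a)
    let Vb : Submodule k A := Submodule.span k (Set.range fun c => act σ c b)
    have hst : ∀ e : A, ∀ c, ∀ v ∈ Submodule.span k (Set.range fun d => act σ d e),
        act σ c v ∈ Submodule.span k (Set.range fun d => act σ d e) := fun e c v hv => by
      refine (Submodule.span_le (p := (Submodule.span k (Set.range fun d => act σ d e)).comap (act σ c))).2 ?_ hv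
      rintro _ ⟨d, rfl⟩
      exact Submodule.subset_span ⟨c * d, act_mul σ c d e⟩
    obtain ⟨x, hxV, hx0, hx⟩ := exists_fixed σ hU Va (hst a) (Submodule.subset_span ⟨1, act_one σ a⟩) ha0
    obtain ⟨y, hyV, hy0, hy⟩ := exists_fixed σ hU Vb (hst b) (Submodule.subset_span ⟨1, act_one σ b⟩) hb0
    refine ⟨x, hx, y, hy, hx0, hy0, ?_⟩
    have hmem : x * y ∈ nilradical A := by
      rw [nilradical_eq_sInf, Submodule.mem_sInf]
      intro P hP
      rcases key P hP with h | h
      · have hle : Va ≤ P.restrictScalars k := Submodule.span_le.2 fun _ ⟨c, hc⟩ => hc ▸ h c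
        exact Ideal.mul_mem_right _ P (hle hxV)
      · have hle : Vb ≤ P.restrictScalars k := Submodule.span_le.2 fun _ ⟨c, hc⟩ => hc ▸ h c
        exact Ideal.mul_mem_left P _ (hle hyV)
    exact (mem_nilradical.1 hmem).eq_zero
  · obtain ⟨e, he, he0⟩ : ∃ e : A, IsNilpotent e ∧ e ≠ 0 := by
      by_contra h
      push Not at h
      exact hred ⟨fun e he => h e he⟩
    obtain ⟨w, hw, hwn, hw0⟩ := exists_nilpotent_fixed σ hσ hU he he0
    haveI : Nontrivial A := nontrivial_of_ne _ _ hw0
    have hpos : nilpotencyClass w ≠ 0 := (pos_nilpotencyClass_iff.2 hwn).ne'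
    refine ⟨w, hw, w ^ (nilpotencyClass w - 1), mem_fixedUnder σ fun c => ?_, hw0, pow_pred_nilpotencyClass hwn, ?_⟩
    · rw [act_pow σ hσ]
      congr 1
      have h := hw k c
      rw [Category.comp_id] at h
      rw [act_apply, h, TensorProduct.lid_tmul, one_smul]
    · rw [← pow_succ', Nat.sub_add_cancel (Nat.one_le_iff_ne_zero.2 hpos)]
      exact pow_nilpotencyClass hwn

end Groth.Agent.UnipFix
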