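import Groth.Agent.AffSpecLib.Unip1
import Groth.Agent.AGFObsLib.Points
import Groth.Agent.Kolchin.Basic

/-!
# Fixed vectors and invariant fractions for a connected group without subtori
-/

set_option autoImplicit false
set_option backward.isDefEq.respectTransparency false
set_option backward.isDefEq.respectTransparency.types false
set_option linter.unusedSectionVars false

universe u

open CategoryTheory MonoidalCategory CartesianMonoidalCategory MonObj AlgebraicGeometry
open scoped TensorProduct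

attribute [-instance] CategoryTheory.CommGrpObj.toIsCommMonObj CategoryTheory.CommGrpObj.toGrpObj CategoryTheory.Hom.commGroup

noncomputable section

namespace Groth.Agent.UnipFix

open AGFObs (algΓ taut ev coef matCoef ev_matCoef Γmap lTr comp_lTr toPt)

attribute [local instance] AGFObs.algΓ

variable {k : Type u} [Field k] {H : Over (Spec (CommRingCat.of k))} [GrpObj H]
variable {M : Type u} [AddCommGroup M] [Module k M] (ρ : VecGrp.GMod H M)

/-- A rational point as an operator. -/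
def act (c : VecGrp.pt k k ⟶ H) : M →ₗ[k] M :=
  (TensorProduct.lid k M).toLinearMap ∘ₗ (ρ.ρ k c).toLinearMap ∘ₗ (TensorProduct.lid k M).symm.toLinearMap

theorem act_apply (c : VecGrp.pt k k ⟶ H) (a : M) :
    act ρ c a = TensorProduct.lid k M (ρ.ρ k c ((1 : k) ⊗ₜ[k] a)) := rfl

theorem lid_symm_act (c : VecGrp.pt k k ⟶ H) (a : M) :
    (1 : k) ⊗ₜ[k] act ρ c a = ρ.ρ k c ((1 : k) ⊗ₜ[k] a) :=
  (TensorProduct.lid k M).symm_apply_apply (ρ.ρ k c ((1 : k) ⊗ₜ[k] a))

theorem act_mul (c d : VecGrp.pt k k ⟶ H) (a : M) : act ρ (c * d) a = act ρ c (act ρ d a) := by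
  rw [act_apply, act_apply, map_mul, lid_symm_act]
  rfl

theorem act_one (a : M) : act ρ 1 a = a := by
  rw [act_apply, map_one]
  exact (TensorProduct.lid k M).apply_symm_apply a

theorem coef_lid (l : M →ₗ[k] k) (z : k ⊗[k] M) : coef l k z = l (TensorProduct.lid k M z) := by
  induction z with
  | zero => simp
  | add p q hp hq => simp only [map_add, hp, hq]
  | tmul c x => simp [coef, mul_comm]

theorem coef_ext {B : Type u} [CommRing B] [Algebra k B] {z z' : B ⊗[k] M}
    (h : ∀ l : M →ₗ[k] k, coef l B z = coef l B z') : z = z' := by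
  let b := Module.Basis.ofVectorSpace k M
  apply (Algebra.TensorProduct.basis B b).repr.injective
  ext i
  have key : ∀ y : B ⊗[k] M, (Algebra.TensorProduct.basis B b).repr y i = coef (b.coord i) B y := by
    intro y
    induction y with
    | zero => simp
    | add p q hp hq => simp only [map_add, Finsupp.add_apply, hp, hq]
    | tmul c x =>
      rw [Algebra.TensorProduct.basis_repr_tmul]
      simp [coef, Algebra.smul_def, mul_comm]
  rw [key, key, h]

variable [IsAlgClosed k] [IsAffine H.left] [Smooth H.hom]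

theorem ev_matCoef_act (l : M →ₗ[k] k) (a : M) (x : VecGrp.pt k k ⟶ H) : ev x (matCoef ρ l a) = l (act ρ x a) := by
  rw [ev_matCoef, coef_lid]
  rfl

/-- Invariance on rational points is invariance on all points. -/
theorem mem_fixedUnder {a : M} (ha : ∀ c, act ρ c a = a) : a ∈ ρ.fixedUnder (𝟙 H) := by
  haveI := ASp.isReduced_of_smooth H.hom
  have hz : ρ.ρ Γ(H.left, ⊤) (taut H) ((1 : Γ(H.left, ⊤)) ⊗ₜ[k] a) = (1 : Γ(H.left, ⊤)) ⊗ₜ[k] a := by
    refine coef_ext fun l => AGFObs.eq_of_ev fun x => ?_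
    refine (ev_matCoef_act ρ l a x).trans ?_
    rw [ha]
    show l a = ev x (coef l Γ(H.left, ⊤) ((1 : Γ(H.left, ⊤)) ⊗ₜ[k] a))
    simp [coef]
  intro B _ _ h
  have h1 := congrArg (VecGrp.Wmap (ev h)) hz
  rw [ρ.naturality, AGFObs.ptMap_ev, VecGrp.Wmap_tmul, map_one] at h1
  rw [Category.comp_id]
  exact h1

/-- The orbit of a vector spans a finite dimensional space. -/
theorem exists_finite_orbit (a : M) : ∃ W : Submodule k M, Module.Finite k W ∧ ∀ c, act ρ c a ∈ W := by
  classical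
  obtain ⟨s, hs⟩ := TensorProduct.exists_finset (ρ.ρ Γ(H.left, ⊤) (taut H) ((1 : Γ(H.left, ⊤)) ⊗ₜ[k] a))
  refine ⟨Submodule.span k (Prod.snd '' (s : Set (Γ(H.left, ⊤) × M))),
    Module.Finite.span_of_finite k (s.finite_toSet.image _), fun c => ?_⟩
  have h := congrArg (VecGrp.Wmap (ev c)) hs
  rw [ρ.naturality, AGFObs.ptMap_ev, VecGrp.Wmap_tmul, map_one, map_sum] at h
  rw [act_apply, h, map_sum]
  refine Submodule.sum_mem _ fun p hp => ?_
  rw [VecGrp.Wmap_tmul, TensorProduct.lid_tmul]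
  exact Submodule.smul_mem _ _ (Submodule.subset_span ⟨p, hp, rfl⟩)

variable [ConnectedSpace H.left]

theorem lTr_eq_trL (c : VecGrp.pt k k ⟶ H) : lTr c = AffSpecLib.trL H (toPt (𝟙_ _) ≫ c) := by
  have h : toUnit H ≫ toPt (𝟙_ (Over (Spec (CommRingCat.of k)))) = toPt H :=
    Over.OverMorphism.ext (Category.comp_id H.hom)
  rw [AffSpecLib.trL, ← Category.assoc, h]
  rfl

/-- Translations are eventually killing differences. -/
theorem exists_iterate_lTr (hH : Red.HasNoSubtorus k H) (c : VecGrp.pt k k ⟶ H) (f : Γ(H.left, ⊤)) :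
    ∃ r, (fun x => (lTr c).left.appTop x - x)^[r] f = 0 := by
  obtain ⟨r, hr⟩ := AffSpecLib.isUnipAct_of_hasNoSubtorus H hH f
  exact ⟨r, by rw [lTr_eq_trL]; exact hr _⟩

/-- A nonzero stable subspace has a nonzero invariant vector. -/
theorem exists_fixed (hH : Red.HasNoSubtorus k H) (V : Submodule k M) (hV : ∀ c, ∀ v ∈ V, act ρ c v ∈ V)
    {v₀ : M} (hv₀ : v₀ ∈ V) (h0 : v₀ ≠ 0) :
    ∃ w ∈ V, w ≠ 0 ∧ w ∈ ρ.fixedUnder (𝟙 H) := by
  classical
  obtain ⟨W₁, hW₁, horb⟩ := exists_finite_orbit ρ v₀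
  haveI := hW₁
  let W : Submodule k M := Submodule.span k (Set.range fun c => act ρ c v₀)
  have hle : W ≤ W₁ := Submodule.span_le.2 fun _ ⟨c, hc⟩ => hc ▸ horb c
  haveI : Module.Finite k W := Module.Finite.of_injective (Submodule.inclusion hle) (Submodule.inclusion_injective hle)
  have hWV : W ≤ V := Submodule.span_le.2 fun _ ⟨c, hc⟩ => hc ▸ hV c v₀ hv₀
  have hstab : ∀ c, ∀ x ∈ W, act ρ c x ∈ W := fun c x hx => by
    refine (Submodule.span_le (p := W.comap (act ρ c))).2 ?_ hx
    rintro _ ⟨d, rfl⟩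
    exact Submodule.subset_span ⟨c * d, act_mul ρ c d v₀⟩
  have hv₀W : v₀ ∈ W := Submodule.subset_span ⟨1, act_one ρ v₀⟩
  haveI : Nontrivial W := ⟨⟨v₀, hv₀W⟩, 0, fun h => h0 (congrArg Subtype.val h)⟩
  let rep : (VecGrp.pt k k ⟶ H) →* Module.End k W :=
    { toFun := fun c => (act ρ c).restrict (hstab c)
      map_one' := LinearMap.ext fun x => Subtype.ext (act_one ρ x.1)
      map_mul' := fun c d => LinearMap.ext fun x => Subtype.ext (act_mul ρ c d x.1) }
  have hnil : ∀ c, IsNilpotent (rep c - 1) := by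
    intro c
    let D : Γ(H.left, ⊤) → Γ(H.left, ⊤) := fun f => (lTr c).left.appTop f - f
    have hD : ∀ f, ∃ r, D^[r] f = 0 := exists_iterate_lTr hH c
    have hev : ∀ (l : M →ₗ[k] k) (a : W) (r : ℕ) (x : VecGrp.pt k k ⟶ H),
        ev x (D^[r] (matCoef ρ l a.1)) = l (((rep c - 1) ^ r) (rep x a)).1 := by
      intro l a r
      induction r with
      | zero => exact fun x => ev_matCoef_act ρ l a.1 x
      | succ r ih =>
        intro x
        rw [Function.iterate_succ_apply', map_sub]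
        rw [show ev x ((lTr c).left.appTop (D^[r] (matCoef ρ l a.1))) = ev (x ≫ lTr c) (D^[r] (matCoef ρ l a.1)) from
          (AlgHom.congr_fun (AGFObs.ev_comp x (lTr c)) _).symm, comp_lTr, ih, ih, map_mul, Module.End.mul_apply,
          ← map_sub l, ← Submodule.coe_sub, ← map_sub, pow_succ, Module.End.mul_apply]
        rfl
    let b := Module.finBasis k W
    choose φ hφ using fun i => (b.coord i).exists_extend
    choose r hr using fun p : Fin (Module.finrank k W) × Fin (Module.finrank k W) =>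
      hD (matCoef ρ (φ p.1) (b p.2).1)
    refine ⟨Finset.univ.sup r, b.ext fun j => b.repr.injective (Finsupp.ext fun i => ?_)⟩
    have h1 := hev (φ i) (b j) (Finset.univ.sup r) 1
    obtain ⟨m, hm⟩ := Nat.le.dest (Finset.le_sup (f := r) (Finset.mem_univ (i, j)))
    rw [← hm, add_comm (r (i, j)) m, Function.iterate_add_apply, hr (i, j),
      show D^[m] 0 = 0 from Function.iterate_fixed (by simp [D]) m, map_zero, map_one, Module.End.one_apply,
      show φ i (((rep c - 1) ^ (m + r (i, j))) (b j)).1 = b.coord i (((rep c - 1) ^ (m + r (i, j))) (b j)) from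
        LinearMap.congr_fun (hφ i) _] at h1
    rw [LinearMap.zero_apply, map_zero, ← hm, add_comm (r (i, j)) m]
    exact h1.symm
  obtain ⟨w, hw0, hw⟩ := Kolchin.exists_fixed rep hnil
  exact ⟨w.1, hWV w.2, fun h => hw0 (Subtype.ext h), mem_fixedUnder ρ fun c => congrArg Subtype.val (hw c)⟩

section Mult

variable {A : Type u} [CommRing A] [Algebra k A] (ρA : VecGrp.GMod H A) (hρ : ρA.IsMult)

theorem lid_mul (x y : k ⊗[k] A) :
    TensorProduct.lid k A (x * y) = TensorProduct.lid k A x * TensorProduct.lid k A y :=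
  map_mul (Algebra.TensorProduct.lid k A) x y

include hρ in
theorem act_mul_elem (c : VecGrp.pt k k ⟶ H) (a b : A) : act ρA c (a * b) = act ρA c a * act ρA c b := by
  have h : ((1 : k) ⊗ₜ[k] (a * b) : k ⊗[k] A) = ((1 : k) ⊗ₜ[k] a) * ((1 : k) ⊗ₜ[k] b) := by
    rw [Algebra.TensorProduct.tmul_mul_tmul, _root_.one_mul]
  rw [act_apply, h, (hρ k c).1, lid_mul]
  rfl

include hρ in
/-- An invariant fraction is a quotient of invariants. -/
theorem exists_fraction [IsDomain A] (hH : Red.HasNoSubtorus k H) (a₀ b₀ : A) (hb₀ : b₀ ≠ 0)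
    (hinv : ∀ c, act ρA c a₀ * b₀ = a₀ * act ρA c b₀) :
    ∃ a b : A, a ∈ ρA.fixedUnder (𝟙 H) ∧ b ∈ ρA.fixedUnder (𝟙 H) ∧ b ≠ 0 ∧ a * b₀ = b * a₀ := by
  let V : Submodule k A := Submodule.comap (LinearMap.mulRight k a₀) (LinearMap.range (LinearMap.mulRight k b₀))
  have hT : ∀ c, act ρA c b₀ ≠ 0 := fun c h => hb₀ (by
    have h1 : act ρA c⁻¹ (act ρA c b₀) = b₀ := by rw [← act_mul, inv_mul_cancel, act_one]
    rw [← h1, h, map_zero])
  have key : ∀ c (b e : A), e * b₀ = b * a₀ → act ρA c e * b₀ = act ρA c b * a₀ := fun c b e he => by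
    refine mul_right_cancel₀ (hT c) ?_
    calc act ρA c e * b₀ * act ρA c b₀ = act ρA c (e * b₀) * b₀ := by rw [act_mul_elem ρA hρ]; ring
      _ = act ρA c b * (act ρA c a₀ * b₀) := by rw [he, act_mul_elem ρA hρ]; ring
      _ = act ρA c b * a₀ * act ρA c b₀ := by rw [hinv]; ring
  obtain ⟨b, hb, hb0, hbfix⟩ := exists_fixed ρA hH V
    (fun c v hv => by
      obtain ⟨e, he⟩ := hv
      exact ⟨act ρA c e, key c v e he⟩) (v₀ := b₀) ⟨a₀, mul_comm a₀ b₀⟩ hb₀
  obtain ⟨a, ha⟩ := hb
  refine ⟨a, b, mem_fixedUnder ρA fun c => mul_right_cancel₀ hb₀ ((key c b a ha).trans ?_), hbfix, hb0, ha⟩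
  have h1 := hbfix k c
  rw [Category.comp_id] at h1
  rw [act_apply, h1, TensorProduct.lid_tmul, one_smul]
  exact ha.symm

end Mult

end Groth.Agent.UnipFix
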